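import Mathlib.AlgebraicGeometry.Morphisms.Immersion
import Mathlib.AlgebraicGeometry.Morphisms.UniversallyOpen
import Mathlib.AlgebraicGeometry.Morphisms.FlatDescent
import Groth.Agent.Lib.Helper15.AlgSpDescent

/-!
# Immersions of schemes descend along fppf morphisms (helper19)
-/

set_option autoImplicit false
set_option linter.style.haveILetI false
universe u
open CategoryTheory CategoryTheory.Limits AlgebraicGeometry MorphismProperty

namespace Groth.Agent.Helper19.FpqcAff

theorem range_fst_of_isPullback {A X Y Z : Scheme.{u}} {fst : A ⟶ X} {snd : A ⟶ Y} {f : X ⟶ Z}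
    {g : Y ⟶ Z} (h : IsPullback fst snd f g) : Set.range fst = f ⁻¹' Set.range g := by
  have e : fst = h.isoPullback.hom ≫ pullback.fst f g := (h.isoPullback_hom_fst).symm
  rw [e, Scheme.Hom.comp_base, TopCat.coe_comp, Set.range_comp,
    Set.range_eq_univ.2 h.isoPullback.hom.surjective, Set.image_univ, Scheme.Pullback.range_fst]

/-- **Immersions descend along fppf morphisms.** -/
instance isImmersion_descendsAlong_fppf :
    DescendsAlong (@IsImmersion : MorphismProperty Scheme.{u})
      (@Surjective ⊓ @Flat ⊓ @LocallyOfFinitePresentation) where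
  of_isPullback {A X Y Z fst snd f g} h hf hfst := by
    haveI : IsImmersion fst := hfst
    haveI : Surjective f := hf.1.1
    haveI : Flat f := hf.1.2
    haveI : LocallyOfFinitePresentation f := hf.2
    have hrange : Set.range fst = f ⁻¹' Set.range g := range_fst_of_isPullback h
    have hcob : coborder (Set.range fst) = f ⁻¹' coborder (Set.range g) := by
      rw [hrange]
      exact coborder_preimage f.isOpenMap f.continuous _
    have hopen : IsOpen (coborder (Set.range g)) := by
      have h1 : IsOpen (f ⁻¹' coborder (Set.range g)) := by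
        rw [← hcob]
        exact fst.isLocallyClosed_range.isOpen_coborder
      have h2 : coborder (Set.range g) = f '' (f ⁻¹' coborder (Set.range g)) :=
        (Set.image_preimage_eq _ f.surjective).symm
      rw [h2]
      exact f.isOpenMap _ h1
    obtain ⟨T, hT⟩ : ∃ T : Z.Opens, (T : Set Z) = coborder (Set.range g) := ⟨⟨_, hopen⟩, rfl⟩
    have hgT : Set.range g ⊆ Set.range T.ι := by
      rw [Scheme.Opens.range_ι, hT]
      exact subset_coborder
    obtain ⟨gT, hgT'⟩ : ∃ gT : Y ⟶ T, gT ≫ T.ι = g :=
      ⟨IsOpenImmersion.lift T.ι g hgT, IsOpenImmersion.lift_fac _ _ _⟩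
    have e : f ⁻¹ᵁ T = fst.coborderRange := by
      apply TopologicalSpace.Opens.ext
      change f ⁻¹' (T : Set Z) = coborder (Set.range fst)
      rw [hT, hcob]
    obtain ⟨fst', hfst', hci⟩ : ∃ fst' : A ⟶ (f ⁻¹ᵁ T : Scheme.{u}),
        fst' ≫ (f ⁻¹ᵁ T).ι = fst ∧ IsClosedImmersion fst' :=
      ⟨fst.liftCoborder ≫ (X.isoOfEq e).inv, by simp, inferInstance⟩
    have sqL : IsPullback fst' snd (f ∣_ T) gT := by
      refine IsPullback.of_right ?_ ?_ (isPullback_morphismRestrict f T).flip
      · rw [hfst', hgT']
        exact h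
      · rw [← cancel_mono T.ι, Category.assoc, Category.assoc, morphismRestrict_ι,
          ← Category.assoc, hfst', hgT', h.w]
    have hQ : (@Surjective ⊓ @Flat ⊓ @LocallyOfFinitePresentation : MorphismProperty Scheme.{u})
        (f ∣_ T) := IsZariskiLocalAtTarget.restrict hf T
    haveI : IsClosedImmersion gT :=
      MorphismProperty.of_isPullback_of_descendsAlong (P := @IsClosedImmersion)
        (Q := (@Surjective ⊓ @Flat ⊓ @LocallyOfFinitePresentation : MorphismProperty Scheme.{u}))
        sqL hQ hci
    rw [← hgT']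
    infer_instance

instance isLocalAtTarget_fppf_isImmersion :
    IsLocalAtTarget (@IsImmersion : MorphismProperty Scheme.{u}) Scheme.fppfPrecoverage :=
  Groth.Agent.Helper15.isLocalAtTarget_fppf_of_descendsAlong _

end Groth.Agent.Helper19.FpqcAff
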