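import Groth.Agent.Lib.Helper19.FpqcAff.Fam
import Groth.Agent.Lib.Helper15.AlgSpDescent
import Groth.Agent.Lib.Helper16.AlgSp.FlatDesc
import Mathlib.AlgebraicGeometry.Morphisms.LocalFlatDescent
import Mathlib.AlgebraicGeometry.Morphisms.Finite
import Mathlib.AlgebraicGeometry.Morphisms.Integral

/-!
# Closed immersions, integral, finite and finite locally free morphisms of algebraic spaces are
fpqc local on the base (helper19)
-/

set_option autoImplicit false
set_option linter.style.haveILetI false
universe u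
open CategoryTheory CategoryTheory.Limits AlgebraicGeometry MorphismProperty Opposite
open AlgSp Groth.Agent.Helper15 Groth.Agent.Helper16.AS

namespace Groth.Agent.Helper19.FpqcAff

variable {S : Scheme.{u}}

theorem isLocalOnBase_std_repWith_isClosedImmersion :
    IsLocalOnBase (IsStdRefinable (S := S)) (RepWith @IsClosedImmersion) := by
  refine isLocalOnBase_congr ?_ (isLocalOnBase_std_affine_and_repWith @IsClosedImmersion)
  intro X Y f _ _
  refine ⟨fun h => h.2, fun h => ⟨?_, h⟩⟩
  rw [isAffineMor_iff_affRep]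
  exact (affRep_of_repWith h).mono isClosedImmersion_le_isAffineHom

theorem isIntegralHom_le_isAffineHom :
    (@IsIntegralHom : MorphismProperty Scheme.{u}) ≤ @IsAffineHom :=
  fun _ _ g hg => by haveI : IsIntegralHom g := hg; infer_instance

theorem isIntegralHom_le_universallyClosed :
    (@IsIntegralHom : MorphismProperty Scheme.{u}) ≤ @UniversallyClosed :=
  fun _ _ g hg => by haveI : IsIntegralHom g := hg; infer_instance

theorem isIntegralMor_iff {X Y : Sp S} (f : X ⟶ Y) :
    IsIntegralMor f ↔ IsAffineMor f ∧ RepWith @UniversallyClosed f := by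
  constructor
  · intro h
    rw [isIntegralMor_iff_affRep] at h
    refine ⟨?_, repWith_mono isIntegralHom_le_universallyClosed (repWith_of_affRep f h)⟩
    rw [isAffineMor_iff_affRep]
    exact h.mono isIntegralHom_le_isAffineHom
  · rintro ⟨h1, h2⟩
    intro Z hZ g
    obtain ⟨W, i, fst, sqW, hW⟩ := h1 hZ g
    refine ⟨W, i, fst, sqW, hW, ?_⟩
    have huc : UniversallyClosed i.left := h2.property g fst i sqW
    have haff : IsAffineHom i.left := isAffineHom_of_isAffine _
    exact (IsIntegralHom.iff_universallyClosed_and_isAffineHom (f := i.left)).2 ⟨huc, haff⟩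

theorem isLocalOnBase_std_isIntegralMor :
    IsLocalOnBase (IsStdRefinable (S := S)) IsIntegralMor := by
  refine isLocalOnBase_congr ?_ (isLocalOnBase_std_affine_and_repWith @UniversallyClosed)
  intro X Y f _ _
  exact (isIntegralMor_iff f).symm

theorem isFinite_le_isAffineHom :
    (@IsFinite : MorphismProperty Scheme.{u}) ≤ @IsAffineHom :=
  fun _ _ g hg => by haveI : IsFinite g := hg; infer_instance

theorem isFinite_le_uc_inf_lft :
    (@IsFinite : MorphismProperty Scheme.{u}) ≤
      (@UniversallyClosed ⊓ @LocallyOfFiniteType : MorphismProperty Scheme.{u}) :=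
  fun _ _ g hg => by
    haveI : IsFinite g := hg
    exact ⟨inferInstance, inferInstance⟩

theorem isFinite_of_uc_lft_affine {X Y : Scheme.{u}} (g : X ⟶ Y) (h1 : UniversallyClosed g)
    (h2 : LocallyOfFiniteType g) (h3 : IsAffineHom g) : IsFinite g := by
  rw [IsFinite.iff_isIntegralHom_and_locallyOfFiniteType]
  exact ⟨(IsIntegralHom.iff_universallyClosed_and_isAffineHom (f := g)).2 ⟨h1, h3⟩, h2⟩

theorem isFiniteMor_iff {X Y : Sp S} (f : X ⟶ Y) :
    IsFiniteMor f ↔
      IsAffineMor f ∧ RepWith (@UniversallyClosed ⊓ @LocallyOfFiniteType) f := by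
  constructor
  · intro h
    rw [isFiniteMor_iff_affRep] at h
    refine ⟨?_, repWith_mono isFinite_le_uc_inf_lft (repWith_of_affRep f h)⟩
    rw [isAffineMor_iff_affRep]
    exact h.mono isFinite_le_isAffineHom
  · rintro ⟨h1, h2⟩
    intro Z hZ g
    obtain ⟨W, i, fst, sqW, hW⟩ := h1 hZ g
    refine ⟨W, i, fst, sqW, hW, ?_⟩
    obtain ⟨huc, hlft⟩ := h2.property g fst i sqW
    exact isFinite_of_uc_lft_affine _ huc hlft (isAffineHom_of_isAffine _)

theorem isLocalOnBase_std_isFiniteMor :
    IsLocalOnBase (IsStdRefinable (S := S)) IsFiniteMor := by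
  refine isLocalOnBase_congr ?_
    (isLocalOnBase_std_affine_and_repWith (@UniversallyClosed ⊓ @LocallyOfFiniteType))
  intro X Y f _ _
  exact (isFiniteMor_iff f).symm

theorem finLocFree_le_isAffineHom :
    (finLocFree : MorphismProperty Scheme.{u}) ≤ @IsAffineHom :=
  fun _ _ g hg => by haveI : IsFinite g := hg.1; infer_instance

theorem finLocFree_le :
    (finLocFree : MorphismProperty Scheme.{u}) ≤
      (@UniversallyClosed ⊓ @Flat ⊓ @LocallyOfFinitePresentation : MorphismProperty Scheme.{u}) :=
  fun _ _ g hg => by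
    haveI : IsFinite g := hg.1
    exact ⟨⟨inferInstance, hg.2.1⟩, hg.2.2⟩

theorem isFinLocFreeMor_iff {X Y : Sp S} (f : X ⟶ Y) :
    IsFinLocFreeMor f ↔
      IsAffineMor f ∧ RepWith (@UniversallyClosed ⊓ @Flat ⊓ @LocallyOfFinitePresentation) f := by
  constructor
  · intro h
    refine ⟨?_, repWith_mono finLocFree_le h⟩
    rw [isAffineMor_iff_affRep]
    exact (affRep_of_repWith h).mono finLocFree_le_isAffineHom
  · rintro ⟨h1, h2⟩
    have h3 : RepWith @IsAffineHom f := repWith_of_affRep f ((isAffineMor_iff_affRep f).1 h1)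
    refine ⟨h2.rep, fun T V g fst snd sq => ?_⟩
    obtain ⟨⟨huc, hfl⟩, hlfp⟩ := h2.property g fst snd sq
    have haff : IsAffineHom snd.left := h3.property g fst snd sq
    haveI : LocallyOfFinitePresentation snd.left := hlfp
    exact ⟨isFinite_of_uc_lft_affine _ huc inferInstance haff, hfl, hlfp⟩

theorem isLocalOnBase_std_isFinLocFreeMor :
    IsLocalOnBase (IsStdRefinable (S := S)) IsFinLocFreeMor := by
  refine isLocalOnBase_congr ?_
    (isLocalOnBase_std_affine_and_repWith
      (@UniversallyClosed ⊓ @Flat ⊓ @LocallyOfFinitePresentation))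
  intro X Y f _ _
  exact (isFinLocFreeMor_iff f).symm

end Groth.Agent.Helper19.FpqcAff
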