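import Groth.Agent.Lib.Helper19.FpqcAff.ImmFppf
import Groth.Agent.Lib.Helper16.AlgSp.FppfLoc
import Groth.Agent.Lib.Helper16.AlgSp.FpqcBase
import Groth.Agent.Lib.Helper15.FppfBridge3
import Groth.Agent.Lib.Helper15.AlgSpLocal

/-!
# Immersions of algebraic spaces are fppf local on the base (helper19)
-/

set_option autoImplicit false
set_option linter.style.haveILetI false
universe u
open CategoryTheory CategoryTheory.Limits AlgebraicGeometry MorphismProperty Opposite
open AlgSp Groth.Agent.Helper15 Groth.Agent.Helper16.AS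

namespace Groth.Agent.Helper19.FpqcAff

variable {S : Scheme.{u}}

theorem isLocalOnBase_fppf_repWith_isImmersion :
    IsLocalOnBase (IsFppfCover (S := S)) (RepWith @IsImmersion) := by
  intro ι Y Yi g hY hYi hcov X f hX Xi p q hXi sq
  constructor
  · intro hf i
    exact (RepWith @IsImmersion).of_isPullback (sq i) hf
  · intro hp
    have hri := fun i => (hp i).rep
    have hrep : Representable f := by
      intro T t
      obtain ⟨B, b, hfl, hlfp, hsurj, hl⟩ := exists_fppf_refinement hY hYi hcov T t
      choose l hl using hl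
      have pb : IsPullback (pullback.fst f t) (pullback.snd f t) f t := .of_hasPullback _ _
      have sqa := fun i => (hri i).isPullback (l i)
      have big : ∀ i, IsPullback ((hri i).fst (l i) ≫ q i) ((yon S).map ((hri i).snd (l i))) f
          ((yon S).map (b i) ≫ t) := fun i => by
        rw [← hl i]
        exact (sqa i).paste_horiz (sq i)
      have hw : ∀ i, ((hri i).fst (l i) ≫ q i) ≫ f =
          ((yon S).map ((hri i).snd (l i)) ≫ (yon S).map (b i)) ≫ t := fun i => by
        rw [Category.assoc _ _ t]
        exact (big i).w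
      have sqL : ∀ i, IsPullback (pb.lift _ _ (hw i)) ((yon S).map ((hri i).snd (l i)))
          (pullback.snd f t) ((yon S).map (b i)) := fun i =>
        IsPullback.of_right (by rw [pb.lift_fst]; exact big i) (pb.lift_snd _ _ _) pb
      obtain ⟨W, j, e, he⟩ := Bridge.exists_rep_of_slqf sqL hfl hlfp
        (fun x => by obtain ⟨i, y, hy⟩ := hsurj x; exact ⟨i, y, hy⟩)
        (fun i => by
          haveI : IsImmersion ((hri i).snd (l i)).left := (hp i).property_snd (l i)
          exact ⟨inferInstance, inferInstance, inferInstance⟩)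
      refine ⟨W, j, e.hom ≫ pullback.fst f t, ?_⟩
      rw [← he]
      exact IsPullback.of_iso pb e.symm (Iso.refl _) (Iso.refl _) (Iso.refl _) (by simp) (by simp)
        (by simp) (by simp)
    refine ⟨hrep, fun T V t fst snd sqV => ?_⟩
    change IsImmersion snd.left
    obtain ⟨B, b, hfl, hlfp, hsurj, hl⟩ := exists_fppf_refinement hY hYi hcov T t
    choose l hl using hl
    have hmem : Presieve.ofArrows (fun i => (B i).left) (fun i => (b i).left) ∈
        Scheme.fppfPrecoverage T.left := by
      let 𝒰 : T.left.Cover (Scheme.precoverage (@Flat ⊓ @LocallyOfFinitePresentation)) :=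
        Scheme.Cover.mkOfCovers ι (fun i => (B i).left) (fun i => (b i).left)
          (fun x => by obtain ⟨i, y, hy⟩ := hsurj x; exact ⟨i, y, hy⟩)
          (fun i => ⟨hfl i, hlfp i⟩)
      exact 𝒰.mem₀
    refine property_of_cover (P := @IsImmersion) Scheme.fppfPrecoverage sqV hmem ?_
    rintro T' _ ⟨i⟩ V' fst' snd' sq'
    let κ : Over.mk ((b i).left ≫ T.hom) ⟶ B i := Over.homMk (𝟙 _) (by simp)
    have hκ : (Over.homMk (b i).left : Over.mk ((b i).left ≫ T.hom) ⟶ T) = κ ≫ b i := by
      ext
      simp [κ]
    have e1 : (yon S).map (Over.homMk (b i).left : Over.mk ((b i).left ≫ T.hom) ⟶ T) ≫ t =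
        ((yon S).map κ ≫ l i) ≫ g i := by
      rw [hκ, Functor.map_comp, Category.assoc, Category.assoc, hl i]
    rw [e1] at sq'
    have hw : fst' ≫ f = ((yon S).map snd' ≫ (yon S).map κ ≫ l i) ≫ g i := by
      rw [Category.assoc]
      exact sq'.w
    have sq'' : IsPullback ((sq i).lift fst' _ hw) ((yon S).map snd') (p i)
        ((yon S).map κ ≫ l i) :=
      IsPullback.of_right (by rw [(sq i).lift_fst]; exact sq') ((sq i).lift_snd _ _ _) (sq i)
    exact (hp i).property _ _ _ sq''

end Groth.Agent.Helper19.FpqcAff
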