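import Groth.Agent.Lib.Helper19.FpqcAff.Rep
import Groth.Agent.Lib.Helper15.AlgSpGlue
import Groth.Agent.Lib.Helper15.AlgSpAff

/-!
# Affine morphisms of algebraic spaces are fpqc local on the base (helper19)
-/

set_option autoImplicit false
set_option linter.style.haveILetI false
universe u
open CategoryTheory CategoryTheory.Limits AlgebraicGeometry MorphismProperty Opposite
open AlgSp Groth.Agent.Helper15 Groth.Agent.Helper16.AS

namespace Groth.Agent.Helper19.FpqcAff

variable {S : Scheme.{u}}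

/-- The disjoint union of the members of a standard fpqc covering, as a scheme over `S`. -/
theorem exists_sigmaOver {Z : Over S} [IsAffine Z.left] {m : ℕ} (W : Fin m → Over S)
    (c : ∀ j, W j ⟶ Z) (hc : StdFpqc Z m W c) :
    ∃ (T'' : Over S) (c' : T'' ⟶ Z) (ι : ∀ j, W j ⟶ T''),
      IsAffine T''.left ∧ Flat c'.left ∧ Surjective c'.left ∧ (∀ j, ι j ≫ c' = c j) ∧
        (∀ j, IsOpenImmersion (ι j).left) ∧ (∀ x : T''.left, ∃ j y, (ι j).left y = x) := by
  haveI := hc.affine
  obtain ⟨Wl, hWl⟩ : ∃ Wl : Fin m → Scheme.{u}, Wl = fun j => (W j).left := ⟨_, rfl⟩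
  obtain ⟨cl, hcl⟩ : ∃ cl : ∀ j, (W j).left ⟶ Z.left, cl = fun j => (c j).left := ⟨_, rfl⟩
  have hp := fpqc_sigmaDesc (fun j => (W j).left) cl (by rw [hcl]; exact hc.flat)
    (by rw [hcl]; exact hc.surj)
  have hw : ∀ j, Sigma.ι (fun j => (W j).left) j ≫ Sigma.desc cl ≫ Z.hom = (W j).hom := by
    intro j
    rw [Sigma.ι_desc_assoc, hcl]
    exact Over.w (c j)
  refine ⟨Over.mk (Sigma.desc cl ≫ Z.hom), Over.homMk (Sigma.desc cl) rfl,
    fun j => Over.homMk (Sigma.ι (fun j => (W j).left) j) (hw j), ?_, hp.1.2, hp.1.1, ?_, ?_, ?_⟩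
  · change IsAffine (∐ fun j => (W j).left)
    infer_instance
  · intro j
    ext
    change Sigma.ι (fun j => (W j).left) j ≫ Sigma.desc cl = (c j).left
    rw [Sigma.ι_desc, hcl]
  · intro j
    change IsOpenImmersion (Sigma.ι (fun j => (W j).left) j)
    infer_instance
  · intro x
    obtain ⟨j, y, hy⟩ := (sigmaOpenCover (fun j => (W j).left)).exists_eq x
    exact ⟨j, y, hy⟩

/-- Descent of affine morphisms along a standard fpqc covering. -/
theorem isAffineMor_of_stdFpqc (Z : Over S) (hZ : IsAffine Z.left) {T : Sp S}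
    (t : T ⟶ (yon S).obj Z) (hT : IsAlgSpace T) (m : ℕ) (W : Fin m → Over S) (c : ∀ j, W j ⟶ Z)
    (hc : StdFpqc Z m W c) (h : ∀ j, IsAffineMor (pullback.snd t ((yon S).map (c j)))) :
    IsAffineMor t := by
  haveI := hZ
  obtain ⟨T'', c', ι, hT'', hfl, hsu, hιc, hιo, hιcov⟩ := exists_sigmaOver W c hc
  have key : ∀ j, ∃ (U : Over S) (π : U ⟶ W j) (fst : (yon S).obj U ⟶ T),
      IsPullback fst ((yon S).map π) t ((yon S).map (c j)) ∧ IsAffine U.left := by
    intro j
    obtain ⟨U, π, fst, sqU, hU⟩ := h j (hc.affine j) (𝟙 _)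
    refine ⟨U, π, fst ≫ pullback.fst _ _, ?_, hU⟩
    have := sqU.paste_horiz (IsPullback.of_hasPullback t ((yon S).map (c j)))
    rwa [Category.id_comp] at this
  choose U π fst sqU hU using key
  obtain ⟨V, fstV, sndV, sqV, hV⟩ := exists_rep_pullback_of_cover (Q := @IsAffineHom) t
    ((yon S).map c') (K := ULift.{u} (Fin m)) (fun k => W k.down) (fun k => ι k.down)
    (fun k => hιo k.down)
    (fun x => by obtain ⟨j, y, hy⟩ := hιcov x; exact ⟨ULift.up j, y, hy⟩)
    (fun k => U k.down) (fun k => π k.down) (fun k => fst k.down)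
    (fun k => by rw [← Functor.map_comp, hιc]; exact sqU k.down)
    (fun k => by
      haveI := hU k.down
      haveI := hc.affine k.down
      exact isAffineHom_of_isAffine _)
  haveI : IsAffineHom sndV.left := hV
  haveI := hT''
  haveI : IsAffine V.left := isAffine_of_isAffineHom sndV.left
  obtain ⟨W', j, ζ, w, hW', hζ, hζm, -, -⟩ := exists_affine_rep hT t c' hfl hsu sndV fstV sqV
  haveI := hζ
  haveI := hW'
  rw [isAffineMor_iff_affRep]
  have h2 : AffRep (S := S) @IsAffineHom ((yon S).map j) := by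
    apply affRep_of_repWith
    rw [repWith_yon_map_iff]
    exact isAffineHom_of_isAffine _
  have h1 : AffRep (S := S) @IsAffineHom (inv ζ) := affRep_of_repWith (repWith_of_isIso _ _)
  have e : t = inv ζ ≫ (yon S).map j := by rw [IsIso.eq_inv_comp, hζm]
  rw [e]
  exact (AffRep (S := S) @IsAffineHom).comp_mem _ _ h1 h2

/-- **Affine morphisms of algebraic spaces are fpqc local on the base** (standard form). -/
theorem isLocalOnBase_std_isAffineMor :
    IsLocalOnBase (IsStdRefinable (S := S)) IsAffineMor := by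
  refine isLocalOnBase_std_of' IsAffineMor IsAffineMor ?_ ?_ ?_ ?_
  · intro X Y X' Y' f g f' g' _ _ _ _ sq hf
    rw [isAffineMor_iff_affRep] at hf ⊢
    exact (AffRep (S := S) @IsAffineHom).of_isPullback sq hf
  · intro X Y T f _ _ hf Z hZ h fst snd sq
    rw [isAffineMor_iff_affRep] at hf ⊢
    exact (AffRep (S := S) @IsAffineHom).of_isPullback sq hf
  · intro X Y f _ _ h Z hZ g
    have h1 := h Z hZ g (pullback f g) (pullback.fst f g) (pullback.snd f g)
      (IsPullback.of_hasPullback f g)
    obtain ⟨W, i, fst', sqW, hW⟩ := h1 hZ (𝟙 _)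
    refine ⟨W, i, fst' ≫ pullback.fst f g, ?_, hW⟩
    have := sqW.paste_horiz (IsPullback.of_hasPullback f g)
    rwa [Category.id_comp] at this
  · intro Z hZ T t hT m W c hc h
    exact isAffineMor_of_stdFpqc Z hZ t hT m W c hc h

/-- Affine morphisms whose scheme-theoretic base changes have a property `Q'` satisfying fpqc
descent are fpqc local on the base. -/
theorem isLocalOnBase_std_affine_and_repWith (Q' : MorphismProperty Scheme.{u})
    [Q'.IsStableUnderBaseChange] [IsZariskiLocalAtTarget Q']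
    [Q'.DescendsAlong (@Surjective ⊓ @Flat ⊓ @QuasiCompact)] :
    IsLocalOnBase (IsStdRefinable (S := S)) (fun _ _ f => IsAffineMor f ∧ RepWith Q' f) := by
  intro ι Y Yi g hY hYi hcov X f hX Xi p q hXi sq
  have hA := isLocalOnBase_std_isAffineMor Yi g hY hYi hcov f hX Xi p q hXi sq
  constructor
  · intro hf i
    exact ⟨hA.1 hf.1 i, (RepWith Q').of_isPullback (sq i) hf.2⟩
  · intro hp
    have h1 : IsAffineMor f := hA.2 fun i => (hp i).1
    have hrep : Representable f :=
      (repWith_of_affRep f ((isAffineMor_iff_affRep f).1 h1)).rep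
    exact ⟨h1, repWith_of_stdRefinable Q' hrep sq hcov fun i => (hp i).2⟩

end Groth.Agent.Helper19.FpqcAff
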