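import Groth.Agent.Lib.Helper19.FpqcAff.Rep2
import Groth.Agent.Lib.Helper19.FpqcAff.Fam
import Groth.Agent.Lib.Helper15.FppfBridge5
import Groth.Agent.Lib.Helper21.DescQA5

/-!
# Quasi-affine morphisms of algebraic spaces are fpqc local on the base (helper19)
-/

set_option autoImplicit false
set_option linter.style.haveILetI false
universe u
open CategoryTheory CategoryTheory.Limits AlgebraicGeometry MorphismProperty Opposite
open AlgSp Groth.Agent.Helper15 Groth.Agent.Helper16.AS
open Groth.Agent.Helper21.DescQA Groth.Agent.Helper15.Bridge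

namespace Groth.Agent.Helper19.FpqcAff

variable {S : Scheme.{u}}

instance isZariskiLocalAtTarget_QA : IsZariskiLocalAtTarget (QA.{u}) := by
  haveI : (QA.{u}).RespectsIso := MorphismProperty.IsStableUnderBaseChange.respectsIso
  apply IsZariskiLocalAtTarget.mk'
  · intro X Y f U hf
    exact MorphismProperty.of_isPullback (P := QA.{u}) (isPullback_morphismRestrict f U).flip hf
  · intro X Y f ι U hU h
    refine QA.of_local f (fun y => ?_)
    have hy : y ∈ (⨆ i, U i : Y.Opens) := by rw [hU]; trivial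
    obtain ⟨i, hi⟩ := TopologicalSpace.Opens.mem_iSup.1 hy
    refine ⟨(U i : Scheme.{u}), (U i).ι, inferInstance, by rw [Scheme.Opens.range_ι]; exact hi, ?_⟩
    rw [← pullbackRestrictIsoRestrict_hom_morphismRestrict]
    exact ((QA.{u}).cancel_left_of_respectsIso _ _).2 (h i)

/-- The quotient scheme of a quasi-affine chart by the descent datum defined by a sheaf. -/
theorem exists_qa_quotient {G : Sp S} {T T'' U : Over S} (m : G ⟶ (yon S).obj T) (c : T'' ⟶ T)
    [Flat c.left] [Surjective c.left] [QuasiCompact c.left] (π : U ⟶ T'') (hπ : QA π.left)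
    (fst : (yon S).obj U ⟶ G) (sq : IsPullback fst ((yon S).map π) m ((yon S).map c)) :
    ∃ (W : Over S) (j : W ⟶ T) (w : U ⟶ W), IsPullback w π j c ∧
      ∀ (X : Over S) (x y : X ⟶ U), x ≫ w = y ≫ w →
        (yon S).map x ≫ fst = (yon S).map y ≫ fst := by
  have sq' : ∀ _ : PUnit.{u + 1}, IsPullback fst ((yon S).map π) m ((yon S).map c) := fun _ => sq
  have hf : Presieve.ofArrows (fun _ : PUnit.{u + 1} => T''.left) (fun _ => c.left) ∈
      Scheme.fpqcPrecoverage T.left := by
    rw [Presieve.ofArrows_pUnit]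
    exact Scheme.Hom.singleton_mem_fpqcPrecoverage c.left
  obtain ⟨W₀, ⟨θ⟩⟩ := qa_isEffective _ hf
    (ddFam (ι := PUnit.{u + 1}) (V' := fun _ => U) (fst := fun _ => fst) (T' := fun _ => T'')
      (c := fun _ => c) (π := fun _ => π) sq') (fun _ => hπ)
  obtain ⟨a, b, hab, hba, haπ, harel⟩ := exists_of_iso _ W₀ θ
  obtain ⟨a₀, ha₀⟩ : ∃ a₀ : pullback c.left W₀.hom ⟶ U.left, a₀ = a PUnit.unit := ⟨_, rfl⟩
  obtain ⟨b₀, hb₀⟩ : ∃ b₀ : U.left ⟶ pullback c.left W₀.hom, b₀ = b PUnit.unit := ⟨_, rfl⟩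
  have hab₀ : a₀ ≫ b₀ = 𝟙 _ := by rw [ha₀, hb₀]; exact hab PUnit.unit
  have hba₀ : b₀ ≫ a₀ = 𝟙 _ := by rw [ha₀, hb₀]; exact hba PUnit.unit
  have haπ₀ : a₀ ≫ π.left = pullback.fst c.left W₀.hom := by rw [ha₀]; exact haπ PUnit.unit
  have hbπ₀ : b₀ ≫ pullback.fst c.left W₀.hom = π.left := by
    rw [← haπ₀, ← Category.assoc, hba₀, Category.id_comp]
  have hw : (b₀ ≫ pullback.snd c.left W₀.hom) ≫ W₀.hom ≫ T.hom = U.hom := by
    rw [Category.assoc, ← pullback.condition_assoc, Over.w c, ← Category.assoc, hbπ₀, Over.w π]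
  refine ⟨Over.mk (W₀.hom ≫ T.hom), Over.homMk W₀.hom rfl,
    Over.homMk (b₀ ≫ pullback.snd c.left W₀.hom) hw, ?_, ?_⟩
  · apply IsPullback.of_map_of_faithful (Over.forget S)
    change IsPullback (b₀ ≫ pullback.snd c.left W₀.hom) π.left W₀.hom c.left
    refine (IsPullback.of_hasPullback c.left W₀.hom).flip.of_iso ⟨a₀, b₀, hab₀, hba₀⟩ (Iso.refl _)
      (Iso.refl _) (Iso.refl _) ?_ ?_ ?_ ?_
    · change pullback.snd c.left W₀.hom ≫ 𝟙 _ = a₀ ≫ b₀ ≫ pullback.snd c.left W₀.hom
      rw [Category.comp_id, ← Category.assoc, hab₀, Category.id_comp]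
    · change pullback.fst c.left W₀.hom ≫ 𝟙 _ = a₀ ≫ π.left
      rw [Category.comp_id, haπ₀]
    · simp
    · simp
  · intro X x y hxy
    have hxy' : (x.left ≫ b₀) ≫ pullback.snd c.left W₀.hom =
        (y.left ≫ b₀) ≫ pullback.snd c.left W₀.hom := by
      have := congrArg (fun t => t.left) hxy
      simpa using this
    have hrel := harel X.left PUnit.unit PUnit.unit (x.left ≫ b₀) (y.left ≫ b₀) hxy'
    rw [← ha₀, Category.assoc, Category.assoc, hba₀, Category.comp_id, Category.comp_id] at hrel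
    exact Rel.eq (fst := fun _ : PUnit.{u + 1} => fst) (i := PUnit.unit) (j := PUnit.unit) hrel

/-- **fpqc effective descent of quasi-affine schemes over an algebraic space.** -/
theorem exists_qa_rep {G : Sp S} (hG : IsAlgSpace G) {T T'' U : Over S}
    [IsAffine T.left] [IsAffine T''.left]
    (m : G ⟶ (yon S).obj T) (c : T'' ⟶ T) (hflat : Flat c.left) (hsurj : Surjective c.left)
    (π : U ⟶ T'') (hπ : QA π.left) (fst : (yon S).obj U ⟶ G)
    (sq : IsPullback fst ((yon S).map π) m ((yon S).map c)) :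
    ∃ (W : Over S) (j : W ⟶ T) (ζ : (yon S).obj W ⟶ G),
      IsIso ζ ∧ ζ ≫ m = (yon S).map j ∧ W.left.IsQuasiAffine := by
  haveI := hflat
  haveI := hsurj
  haveI : IsAffineHom c.left := isAffineHom_of_isAffine _
  obtain ⟨W, j, w, sqW, H⟩ := exists_qa_quotient m c π hπ fst sq
  have sqWl : IsPullback w.left π.left j.left c.left := sqW.map (Over.forget S)
  haveI hUqa : U.left.IsQuasiAffine := by
    haveI := hπ T''.left (𝟙 _) inferInstance
    haveI : IsIso (pullback.fst π.left (𝟙 T''.left)) := inferInstance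
    exact Scheme.IsQuasiAffine.of_isAffineHom (inv (pullback.fst π.left (𝟙 T''.left)))
  have hπsep : IsSeparated π.left := inferInstance
  obtain ⟨ζ, hζ, hζm, -⟩ := exists_rep_of_quotient hG m c hflat hsurj π hπsep fst sq j w sqW H
  refine ⟨W, j, ζ, hζ, hζm, ?_⟩
  haveI : (pullback j.left c.left).IsQuasiAffine :=
    Scheme.IsQuasiAffine.of_isAffineHom sqWl.isoPullback.inv
  exact Groth.Agent.Helper21.DescQA5.isQuasiAffine_of_flat_surjective j.left c.left inferInstance

end Groth.Agent.Helper19.FpqcAff
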