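import Groth.Agent.Lib.Helper19.FpqcAff.QAff

/-!
# Quasi-affine morphisms of algebraic spaces are fpqc local on the base, II (helper19)
-/

set_option autoImplicit false
set_option linter.style.haveILetI false
universe u
open CategoryTheory CategoryTheory.Limits AlgebraicGeometry MorphismProperty Opposite
open AlgSp Groth.Agent.Helper15 Groth.Agent.Helper16.AS
open Groth.Agent.Helper21.DescQA Groth.Agent.Helper15.Bridge

namespace Groth.Agent.Helper19.FpqcAff

variable {S : Scheme.{u}}

/-- The property of morphisms of schemes "the source is quasi-affine". -/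
def SrcQA : MorphismProperty Scheme.{u} := fun X _ _ => X.IsQuasiAffine

theorem isQuasiAffineMor_iff_affRep {F G : Sp S} (f : F ⟶ G) :
    IsQuasiAffineMor f ↔ AffRep SrcQA f := Iff.rfl

/-- Descent of quasi-affine morphisms along a standard fpqc covering. -/
theorem isQuasiAffineMor_of_stdFpqc (Z : Over S) (hZ : IsAffine Z.left) {T : Sp S}
    (t : T ⟶ (yon S).obj Z) (hT : IsAlgSpace T) (m : ℕ) (W : Fin m → Over S) (c : ∀ j, W j ⟶ Z)
    (hc : StdFpqc Z m W c) (h : ∀ j, IsQuasiAffineMor (pullback.snd t ((yon S).map (c j)))) :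
    IsQuasiAffineMor t := by
  haveI := hZ
  obtain ⟨T'', c', ι, hT'', hfl, hsu, hιc, hιo, hιcov⟩ := exists_sigmaOver W c hc
  have key : ∀ j, ∃ (U : Over S) (π : U ⟶ W j) (fst : (yon S).obj U ⟶ T),
      IsPullback fst ((yon S).map π) t ((yon S).map (c j)) ∧ U.left.IsQuasiAffine := by
    intro j
    obtain ⟨U, π, fst, sqU, hU⟩ := h j (hc.affine j) (𝟙 _)
    refine ⟨U, π, fst ≫ pullback.fst _ _, ?_, hU⟩
    have := sqU.paste_horiz (IsPullback.of_hasPullback t ((yon S).map (c j)))
    rwa [Category.id_comp] at this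
  choose U π fst sqU hU using key
  obtain ⟨V, fstV, sndV, sqV, hV⟩ := exists_rep_pullback_of_cover (Q := QA.{u}) t
    ((yon S).map c') (K := ULift.{u} (Fin m)) (fun k => W k.down) (fun k => ι k.down)
    (fun k => hιo k.down)
    (fun x => by obtain ⟨j, y, hy⟩ := hιcov x; exact ⟨ULift.up j, y, hy⟩)
    (fun k => U k.down) (fun k => π k.down) (fun k => fst k.down)
    (fun k => by rw [← Functor.map_comp, hιc]; exact sqU k.down)
    (fun k => by
      haveI := hU k.down
      haveI := hc.affine k.down
      exact QA.of_isQuasiAffine _)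
  haveI := hT''
  obtain ⟨W', j, ζ, hζ, hζm, hW'⟩ := exists_qa_rep hT t c' hfl hsu sndV hV fstV sqV
  haveI := hζ
  haveI := hW'
  intro Z' hZ' g
  haveI := hZ'
  obtain ⟨g', rfl⟩ := (yon S).map_surjective g
  have sqP : IsPullback (pullback.fst j g') (pullback.snd j g') j g' := IsPullback.of_hasPullback j g'
  have sqPl : IsPullback (pullback.fst j g').left (pullback.snd j g').left j.left g'.left :=
    sqP.map (Over.forget S)
  have h1 : IsPullback ζ ((yon S).map j) t (𝟙 _) :=
    IsPullback.of_horiz_isIso ⟨by rw [hζm, Category.comp_id]⟩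
  have h2 := (sqP.map (yon S)).paste_horiz h1
  rw [Category.comp_id] at h2
  refine ⟨pullback j g', pullback.snd j g', (yon S).map (pullback.fst j g') ≫ ζ, h2, ?_⟩
  haveI : IsAffineHom g'.left := isAffineHom_of_isAffine _
  haveI : IsAffineHom (pullback.fst j g').left :=
    MorphismProperty.of_isPullback (P := @IsAffineHom) sqPl.flip inferInstance
  exact Scheme.IsQuasiAffine.of_isAffineHom (pullback.fst j g').left

/-- **Quasi-affine morphisms of algebraic spaces are fpqc local on the base** (standard form). -/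
theorem isLocalOnBase_std_isQuasiAffineMor :
    IsLocalOnBase (IsStdRefinable (S := S)) IsQuasiAffineMor := by
  refine isLocalOnBase_std_of' IsQuasiAffineMor IsQuasiAffineMor ?_ ?_ ?_ ?_
  · intro X Y X' Y' f g f' g' _ _ _ _ sq hf
    rw [isQuasiAffineMor_iff_affRep] at hf ⊢
    exact (AffRep (S := S) SrcQA).of_isPullback sq hf
  · intro X Y T f _ _ hf Z hZ h fst snd sq
    rw [isQuasiAffineMor_iff_affRep] at hf ⊢
    exact (AffRep (S := S) SrcQA).of_isPullback sq hf
  · intro X Y f _ _ h Z hZ g
    have h1 := h Z hZ g (pullback f g) (pullback.fst f g) (pullback.snd f g)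
      (IsPullback.of_hasPullback f g)
    obtain ⟨W, i, fst', sqW, hW⟩ := h1 hZ (𝟙 _)
    refine ⟨W, i, fst' ≫ pullback.fst f g, ?_, hW⟩
    have := sqW.paste_horiz (IsPullback.of_hasPullback f g)
    rwa [Category.id_comp] at this
  · intro Z hZ T t hT m W c hc h
    exact isQuasiAffineMor_of_stdFpqc Z hZ t hT m W c hc h

end Groth.Agent.Helper19.FpqcAff
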