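import Mathlib.AlgebraicGeometry.Morphisms.Immersion
import Mathlib.AlgebraicGeometry.Morphisms.SchemeTheoreticallyDominant
import Mathlib.AlgebraicGeometry.Morphisms.FlatDescent
import Groth.Agent.Lib.Helper15.AlgSpDescent

/-!
# Quasi-compact immersions of schemes descend along fpqc morphisms (helper19)
-/

set_option autoImplicit false
set_option linter.style.haveILetI false
universe u
open CategoryTheory CategoryTheory.Limits AlgebraicGeometry MorphismProperty

namespace Groth.Agent.Helper19.FpqcAff

/-- The canonical morphism to the scheme-theoretic image is scheme-theoretically dominant. -/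
theorem isSchemeTheoreticallyDominant_toImage {X Y : Scheme.{u}} (f : X ⟶ Y) [QuasiCompact f] :
    IsSchemeTheoreticallyDominant f.toImage := by
  rw [isSchemeTheoreticallyDominant_iff]
  refine Scheme.IdealSheafData.ext_of_iSup_eq_top (ι := Y.affineOpens)
    (fun U => ⟨f.imageι ⁻¹ᵁ U.1, U.2.preimage f.imageι⟩) ?_ ?_
  · have h := iSup_affineOpens_eq_top Y
    have : (⨆ U : Y.affineOpens, f.imageι ⁻¹ᵁ U.1) = f.imageι ⁻¹ᵁ (⨆ U : Y.affineOpens, U.1) := by
      rw [Scheme.Hom.preimage_iSup]
    rw [this, h]
    rfl
  · intro U
    simp only [Scheme.Hom.ker_apply, Scheme.IdealSheafData.ideal_bot, Pi.bot_apply]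
    exact (RingHom.injective_iff_ker_eq_bot _).1 (f.toImage_app_injective U)

/-- A quasi-compact scheme-theoretically dominant immersion is an open immersion. -/
theorem isOpenImmersion_of_isImmersion_of_std {X Y : Scheme.{u}} (f : X ⟶ Y) [IsImmersion f]
    [QuasiCompact f] [IsSchemeTheoreticallyDominant f] : IsOpenImmersion f := by
  haveI : IsIso f.imageι := by
    rw [IsClosedImmersion.isIso_iff_ker_eq_bot, Scheme.IdealSheafData.ker_subschemeι]
    exact f.ker_eq_bot
  rw [← f.toImage_imageι]
  infer_instance

/-- **Quasi-compact immersions descend along fpqc morphisms.** -/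
instance qcImmersion_descendsAlong_fpqc :
    DescendsAlong (@IsImmersion ⊓ @QuasiCompact : MorphismProperty Scheme.{u})
      (@Surjective ⊓ @Flat ⊓ @QuasiCompact) where
  of_isPullback {A X Y Z fst snd f g} h hf hfst := by
    haveI : IsImmersion fst := hfst.1
    haveI : QuasiCompact fst := hfst.2
    haveI hgqc : QuasiCompact g :=
      MorphismProperty.of_isPullback_of_descendsAlong (P := @QuasiCompact)
        (Q := (@Surjective ⊓ @Flat ⊓ @QuasiCompact : MorphismProperty Scheme.{u})) h hf hfst.2
    refine ⟨?_, hgqc⟩
    haveI : Flat f := hf.1.2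
    -- the base change of the scheme-theoretic image
    have hw : (snd ≫ g.toImage) ≫ g.imageι = fst ≫ f := by
      rw [Category.assoc, g.toImage_imageι, h.w]
    obtain ⟨h', hh'1, hh'2⟩ : ∃ h' : A ⟶ pullback g.imageι f,
        h' ≫ pullback.fst g.imageι f = snd ≫ g.toImage ∧ h' ≫ pullback.snd g.imageι f = fst :=
      ⟨pullback.lift _ _ hw, pullback.lift_fst _ _ _, pullback.lift_snd _ _ _⟩
    have sqL : IsPullback h' snd (pullback.fst g.imageι f) g.toImage := by
      refine IsPullback.of_right ?_ hh'1 (IsPullback.of_hasPullback g.imageι f).flip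
      rw [hh'2, g.toImage_imageι]
      exact h
    have hq₁ : (@Surjective ⊓ @Flat ⊓ @QuasiCompact : MorphismProperty Scheme.{u})
        (pullback.fst g.imageι f) := MorphismProperty.pullback_fst _ _ hf
    haveI : Flat (pullback.fst g.imageι f) := hq₁.1.2
    haveI := isSchemeTheoreticallyDominant_toImage g
    haveI : IsSchemeTheoreticallyDominant h' := IsSchemeTheoreticallyDominant.of_isPullback sqL.flip
    haveI : IsImmersion (h' ≫ pullback.snd g.imageι f) := by rw [hh'2]; infer_instance
    haveI : IsImmersion h' := IsImmersion.of_comp h' (pullback.snd g.imageι f)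
    haveI : QuasiCompact (h' ≫ pullback.snd g.imageι f) := by rw [hh'2]; infer_instance
    haveI : QuasiCompact h' := QuasiCompact.of_comp h' (pullback.snd g.imageι f)
    have ho : IsOpenImmersion h' := isOpenImmersion_of_isImmersion_of_std h'
    haveI : IsOpenImmersion g.toImage :=
      MorphismProperty.of_isPullback_of_descendsAlong (P := @IsOpenImmersion)
        (Q := (@Surjective ⊓ @Flat ⊓ @QuasiCompact : MorphismProperty Scheme.{u})) sqL hq₁ ho
    rw [← g.toImage_imageι]
    infer_instance

end Groth.Agent.Helper19.FpqcAff
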