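import Groth.Agent.Lib.Helper19.FpqcAff.QCImm
import Groth.Agent.Lib.Helper19.FpqcAff.QAff2

/-!
# Quasi-compact immersions of algebraic spaces are fpqc local on the base (helper19)
-/

set_option autoImplicit false
set_option linter.style.haveILetI false
universe u
open CategoryTheory CategoryTheory.Limits AlgebraicGeometry MorphismProperty Opposite
open AlgSp Groth.Agent.Helper15 Groth.Agent.Helper16.AS

namespace Groth.Agent.Helper19.FpqcAff

variable {S : Scheme.{u}}

theorem isQuasiAffineMor_of_repWith_qcImmersion {F G : Sp S} {f : F ⟶ G}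
    (h : RepWith (@IsImmersion ⊓ @QuasiCompact) f) : IsQuasiAffineMor f := by
  intro Z hZ g
  haveI := hZ
  refine ⟨_, h.rep.snd g, h.rep.fst g, h.rep.isPullback g, ?_⟩
  obtain ⟨h1, h2⟩ := h.property_snd g
  haveI : IsImmersion (h.rep.snd g).left := h1
  haveI : QuasiCompact (h.rep.snd g).left := h2
  haveI : CompactSpace ↥(h.rep.pullback g).left :=
    QuasiCompact.compactSpace_of_compactSpace (h.rep.snd g).left
  exact Scheme.IsQuasiAffine.of_isImmersion (h.rep.snd g).left

theorem isLocalOnBase_std_repWith_qcImmersion :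
    IsLocalOnBase (IsStdRefinable (S := S)) (RepWith (@IsImmersion ⊓ @QuasiCompact)) := by
  intro ι Y Yi g hY hYi hcov X f hX Xi p q hXi sq
  constructor
  · intro hf i
    exact (RepWith (@IsImmersion ⊓ @QuasiCompact)).of_isPullback (sq i) hf
  · intro hp
    have hqa : IsQuasiAffineMor f :=
      (isLocalOnBase_std_isQuasiAffineMor Yi g hY hYi hcov f hX Xi p q hXi sq).2
        (fun i => isQuasiAffineMor_of_repWith_qcImmersion (hp i))
    have hrep : Representable f := Bridge.representable_of_isQuasiAffineMor f hqa
    exact repWith_of_stdRefinable (@IsImmersion ⊓ @QuasiCompact) hrep sq hcov hp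

end Groth.Agent.Helper19.FpqcAff
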