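import Groth.Agent.Lib.Helper19.FpqcAff.Ring
import Groth.Agent.Lib.Helper19.FpqcSep.Desc
import Groth.Agent.Lib.Helper16.AlgSp.StdIso

/-!
# fpqc effective descent of affine schemes over an algebraic space (helper19)
-/

set_option autoImplicit false
set_option linter.style.haveILetI false
universe u
open CategoryTheory CategoryTheory.Limits AlgebraicGeometry MorphismProperty Opposite
open AlgSp Groth.Agent.Helper15 Groth.Agent.Helper16.AS

namespace Groth.Agent.Helper19.FpqcAff

variable {S : Scheme.{u}}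

theorem isSeparatedMor_of_isPullback {X Y X' Y' : Sp S} {f : X ⟶ Y} {g : Y' ⟶ Y} {f' : X' ⟶ Y'}
    {g' : X' ⟶ X} (sq : IsPullback g' f' f g) (hf : IsSeparatedMor f) : IsSeparatedMor f' := by
  have e : (IsSeparatedMor : MorphismProperty (Sp S)) = (RepWith @IsClosedImmersion).diagonal := rfl
  rw [e] at hf ⊢
  exact MorphismProperty.of_isPullback sq hf

/-- A base change of a flat surjective morphism of affine schemes is a (one member) family
refined by standard fpqc coverings. -/
theorem isStdRefinable_of_isPullback {G P : Sp S} {T T'' : Over S} [IsAffine T.left]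
    [IsAffine T''.left] (c : T'' ⟶ T) (hflat : Flat c.left) (hsurj : Surjective c.left)
    (m : G ⟶ (yon S).obj T) (fst : P ⟶ G) (snd : P ⟶ (yon S).obj T'')
    (sq : IsPullback fst snd m ((yon S).map c)) :
    IsStdRefinable (fun _ : PUnit.{u + 1} => P) (fun _ => fst) := by
  intro Z hZ h
  obtain ⟨h', hh'⟩ := (yon S).map_surjective (h ≫ m)
  obtain ⟨Z'', pr₁, pr₂, sqZ⟩ : ∃ (Z'' : Over S) (pr₁ : Z'' ⟶ Z) (pr₂ : Z'' ⟶ T''),
      IsPullback pr₁ pr₂ h' c := ⟨_, _, _, IsPullback.of_hasPullback h' c⟩
  have sqZl : IsPullback pr₁.left pr₂.left h'.left c.left := sqZ.map (Over.forget S)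
  refine ⟨1, fun _ => Z'', fun _ => pr₁, ⟨fun _ => IsAffine.of_isPullback sqZl, fun _ => ?_,
    fun z => ⟨0, ?_⟩⟩, fun _ => ⟨PUnit.unit, ?_⟩⟩
  · exact MorphismProperty.of_isPullback (P := @Flat) sqZl.flip hflat
  · have : Surjective pr₁.left := MorphismProperty.of_isPullback (P := @Surjective) sqZl.flip hsurj
    exact this.surj z
  · have hw : ((yon S).map pr₁ ≫ h) ≫ m = (yon S).map pr₂ ≫ (yon S).map c := by
      rw [Category.assoc, ← hh', ← Functor.map_comp, ← Functor.map_comp, sqZ.w]
    exact ⟨sq.lift _ _ hw, sq.lift_fst _ _ hw⟩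

/-- **fpqc effective descent of affine schemes over an algebraic space**: an algebraic space `G`
over an affine scheme `T` whose base change along a flat surjective morphism of affine schemes
`T'' ⟶ T` is an affine scheme is itself an affine scheme. -/
theorem exists_affine_rep {G : Sp S} (hG : IsAlgSpace G) {T T'' U : Over S}
    [IsAffine T.left] [IsAffine T''.left] [IsAffine U.left]
    (m : G ⟶ (yon S).obj T) (c : T'' ⟶ T) (hflat : Flat c.left) (hsurj : Surjective c.left)
    (π : U ⟶ T'') (fst : (yon S).obj U ⟶ G)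
    (sq : IsPullback fst ((yon S).map π) m ((yon S).map c)) :
    ∃ (W : Over S) (j : W ⟶ T) (ζ : (yon S).obj W ⟶ G) (w : U ⟶ W),
      IsAffine W.left ∧ IsIso ζ ∧ ζ ≫ m = (yon S).map j ∧ (yon S).map w ≫ ζ = fst ∧
        IsPullback w π j c := by
  obtain ⟨W, j, w, hW, sqW, H⟩ := exists_affine_quotient m c hflat π fst sq
  have sqWl : IsPullback w.left π.left j.left c.left := sqW.map (Over.forget S)
  -- `m` is separated
  have hcov₀ : IsStdRefinable (fun _ : PUnit.{u + 1} => (yon S).obj T'')
      (fun _ => (yon S).map c) :=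
    isStdRefinable_of_isPullback c hflat hsurj (𝟙 _) ((yon S).map c) (𝟙 _)
      (IsPullback.of_vert_isIso ⟨by simp⟩)
  have hmsep : IsSeparatedMor m := by
    rw [isLocalOnBase_std_isSeparatedMor (fun _ : PUnit.{u + 1} => (yon S).obj T'')
      (fun _ => (yon S).map c) (IsAlgSpace.yon_obj T) (fun _ => IsAlgSpace.yon_obj T'') hcov₀ m hG
      (fun _ => (yon S).obj U) (fun _ => (yon S).map π) (fun _ => fst)
      (fun _ => IsAlgSpace.yon_obj U) (fun _ => sq)]
    intro _
    haveI : IsAffineHom π.left := isAffineHom_of_isAffine _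
    exact (isSeparatedMor_yon_map_iff π).2 inferInstance
  -- the fibre product `P = G ×_T W`
  have pb : IsPullback (pullback.fst m ((yon S).map j)) (pullback.snd m ((yon S).map j)) m
      ((yon S).map j) := IsPullback.of_hasPullback _ _
  have hP : IsAlgSpace (pullback m ((yon S).map j)) :=
    isAlgSpace_of_isPullback (IsAlgSpace.yon_obj T).diag hG (IsAlgSpace.yon_obj W) pb
  have hπsep : IsSeparatedMor (pullback.snd m ((yon S).map j)) :=
    isSeparatedMor_of_isPullback pb hmsep
  have hlamw : fst ≫ m = (yon S).map w ≫ (yon S).map j := by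
    rw [sq.w, ← Functor.map_comp, ← Functor.map_comp, sqW.w]
  obtain ⟨lam, hlam1, hlam2⟩ : ∃ lam : (yon S).obj U ⟶ pullback m ((yon S).map j),
      lam ≫ pullback.fst m ((yon S).map j) = fst ∧
      lam ≫ pullback.snd m ((yon S).map j) = (yon S).map w :=
    ⟨pb.lift fst ((yon S).map w) hlamw, pb.lift_fst _ _ _, pb.lift_snd _ _ _⟩
  haveI : Flat w.left := MorphismProperty.of_isPullback (P := @Flat) sqWl.flip hflat
  haveI : Surjective w.left := MorphismProperty.of_isPullback (P := @Surjective) sqWl.flip hsurj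
  haveI : IsAffineHom w.left := isAffineHom_of_isAffine _
  have Hlam : ∀ (X : Over S) (x y : X ⟶ U), x ≫ w = y ≫ w →
      (yon S).map x ≫ lam = (yon S).map y ≫ lam := by
    intro X x y hxy
    apply pb.hom_ext
    · rw [Category.assoc, Category.assoc, hlam1]
      exact H X x y hxy
    · rw [Category.assoc, Category.assoc, hlam2, ← Functor.map_comp, ← Functor.map_comp, hxy]
  obtain ⟨A, a, hae, has⟩ := hP.atlas
  obtain ⟨V, pV, qV, sqV⟩ : ∃ (V : Over S) (pV : V ⟶ A) (qV : V ⟶ U),
      IsPullback ((yon S).map pV) ((yon S).map qV) a lam := ⟨_, _, _, hae.rep.isPullback' lam⟩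
  have hqVs : Surjective qV.left := has.property lam _ _ sqV
  obtain ⟨l, hl1, hl2⟩ := Groth.Agent.Helper19.FpqcSep.exists_descent
    (pullback.snd m ((yon S).map j)) hπsep w lam hlam2 Hlam a hae pV qV sqV hqVs
  refine ⟨W, j, l ≫ pullback.fst m ((yon S).map j), w, hW, ?_, ?_, ?_, sqW⟩
  · -- `ζ` is an isomorphism, fpqc locally on `G`
    have hζw : (yon S).map w ≫ l ≫ pullback.fst m ((yon S).map j) = fst := by
      rw [← Category.assoc, hl1, hlam1]
    have hζm : (l ≫ pullback.fst m ((yon S).map j)) ≫ m = (yon S).map j := by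
      rw [Category.assoc, pb.w, ← Category.assoc, hl2, Category.id_comp]
    have hcov : IsStdRefinable (fun _ : PUnit.{u + 1} => (yon S).obj U) (fun _ => fst) :=
      isStdRefinable_of_isPullback c hflat hsurj m fst ((yon S).map π) sq
    have sqζ : IsPullback ((yon S).map w) (𝟙 ((yon S).obj U))
        (l ≫ pullback.fst m ((yon S).map j)) fst := by
      have houter : IsPullback (𝟙 ((yon S).obj U) ≫ (yon S).map π) ((yon S).map w)
          ((yon S).map c) ((l ≫ pullback.fst m ((yon S).map j)) ≫ m) := by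
        rw [Category.id_comp, hζm]
        exact (sqW.map (yon S)).flip
      exact (IsPullback.of_right houter (by rw [Category.id_comp, hζw]) sq.flip).flip
    exact (isLocalOnBase_std_isomorphisms (fun _ : PUnit.{u + 1} => (yon S).obj U) (fun _ => fst)
      hG (fun _ => IsAlgSpace.yon_obj U) hcov (l ≫ pullback.fst m ((yon S).map j))
      (IsAlgSpace.yon_obj W) (fun _ => (yon S).obj U) (fun _ => 𝟙 _) (fun _ => (yon S).map w)
      (fun _ => IsAlgSpace.yon_obj U) (fun _ => sqζ)).2 (fun _ => (inferInstance : IsIso (𝟙 _)))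
  · rw [Category.assoc, pb.w, ← Category.assoc, hl2, Category.id_comp]
  · rw [← Category.assoc, hl1, hlam1]

end Groth.Agent.Helper19.FpqcAff
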