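import Groth.Agent.Lib.Helper19.FpqcAff.Rep

/-!
# fpqc descent of representability over an algebraic space, given a quotient scheme (helper19)
-/

set_option autoImplicit false
set_option linter.style.haveILetI false
universe u
open CategoryTheory CategoryTheory.Limits AlgebraicGeometry MorphismProperty Opposite
open AlgSp Groth.Agent.Helper15 Groth.Agent.Helper16.AS

namespace Groth.Agent.Helper19.FpqcAff

variable {S : Scheme.{u}}

/-- Let `G` be an algebraic space over an affine scheme `T`, let `T'' ⟶ T` be a flat surjective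
morphism of affine schemes such that `G ×_T T''` is a scheme `U` separated over `T''`, and let `W`
be a scheme over `T` with `W ×_T T'' = U` such that the kernel pair of `U ⟶ W` is contained in the
kernel pair of `U ⟶ G`. Then `G` is represented by `W`. -/
theorem exists_rep_of_quotient {G : Sp S} (hG : IsAlgSpace G) {T T'' U W : Over S}
    [IsAffine T.left] [IsAffine T''.left]
    (m : G ⟶ (yon S).obj T) (c : T'' ⟶ T) (hflat : Flat c.left) (hsurj : Surjective c.left)
    (π : U ⟶ T'') (hπ : IsSeparated π.left) (fst : (yon S).obj U ⟶ G)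
    (sq : IsPullback fst ((yon S).map π) m ((yon S).map c))
    (j : W ⟶ T) (w : U ⟶ W) (sqW : IsPullback w π j c)
    (H : ∀ (X : Over S) (x y : X ⟶ U), x ≫ w = y ≫ w →
      (yon S).map x ≫ fst = (yon S).map y ≫ fst) :
    ∃ (ζ : (yon S).obj W ⟶ G), IsIso ζ ∧ ζ ≫ m = (yon S).map j ∧ (yon S).map w ≫ ζ = fst := by
  have sqWl : IsPullback w.left π.left j.left c.left := sqW.map (Over.forget S)
  -- `m` is separated
  have hcov₀ : IsStdRefinable (fun _ : PUnit.{u + 1} => (yon S).obj T'')
      (fun _ => (yon S).map c) :=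
    isStdRefinable_of_isPullback c hflat hsurj (𝟙 _) ((yon S).map c) (𝟙 _)
      (IsPullback.of_vert_isIso ⟨by simp⟩)
  have hmsep : IsSeparatedMor m := by
    rw [isLocalOnBase_std_isSeparatedMor (fun _ : PUnit.{u + 1} => (yon S).obj T'')
      (fun _ => (yon S).map c) (IsAlgSpace.yon_obj T) (fun _ => IsAlgSpace.yon_obj T'') hcov₀ m hG
      (fun _ => (yon S).obj U) (fun _ => (yon S).map π) (fun _ => fst)
      (fun _ => IsAlgSpace.yon_obj U) (fun _ => sq)]
    intro _
    exact (isSeparatedMor_yon_map_iff π).2 hπ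
  -- the fibre product `P = G ×_T W`
  have pb : IsPullback (pullback.fst m ((yon S).map j)) (pullback.snd m ((yon S).map j)) m
      ((yon S).map j) := IsPullback.of_hasPullback _ _
  have hP : IsAlgSpace (pullback m ((yon S).map j)) :=
    isAlgSpace_of_isPullback (IsAlgSpace.yon_obj T).diag hG (IsAlgSpace.yon_obj W) pb
  have hπsep : IsSeparatedMor (pullback.snd m ((yon S).map j)) :=
    isSeparatedMor_of_isPullback pb hmsep
  have hlamw : fst ≫ m = (yon S).map w ≫ (yon S).map j := by
    rw [sq.w, ← Functor.map_comp, ← Functor.map_comp, sqW.w]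
  obtain ⟨lam, hlam1, hlam2⟩ : ∃ lam : (yon S).obj U ⟶ pullback m ((yon S).map j),
      lam ≫ pullback.fst m ((yon S).map j) = fst ∧
      lam ≫ pullback.snd m ((yon S).map j) = (yon S).map w :=
    ⟨pb.lift fst ((yon S).map w) hlamw, pb.lift_fst _ _ _, pb.lift_snd _ _ _⟩
  haveI : Flat w.left := MorphismProperty.of_isPullback (P := @Flat) sqWl.flip hflat
  haveI : Surjective w.left := MorphismProperty.of_isPullback (P := @Surjective) sqWl.flip hsurj
  haveI : IsAffineHom c.left := isAffineHom_of_isAffine _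
  haveI : IsAffineHom w.left :=
    MorphismProperty.of_isPullback (P := @IsAffineHom) sqWl.flip inferInstance
  have Hlam : ∀ (X : Over S) (x y : X ⟶ U), x ≫ w = y ≫ w →
      (yon S).map x ≫ lam = (yon S).map y ≫ lam := by
    intro X x y hxy
    apply pb.hom_ext
    · rw [Category.assoc, Category.assoc, hlam1]
      exact H X x y hxy
    · rw [Category.assoc, Category.assoc, hlam2, ← Functor.map_comp, ← Functor.map_comp, hxy]
  obtain ⟨A, a, hae, has⟩ := hP.atlas
  obtain ⟨V, pV, qV, sqV⟩ : ∃ (V : Over S) (pV : V ⟶ A) (qV : V ⟶ U),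
      IsPullback ((yon S).map pV) ((yon S).map qV) a lam := ⟨_, _, _, hae.rep.isPullback' lam⟩
  have hqVs : Surjective qV.left := has.property lam _ _ sqV
  obtain ⟨l, hl1, hl2⟩ := Groth.Agent.Helper19.FpqcSep.exists_descent
    (pullback.snd m ((yon S).map j)) hπsep w lam hlam2 Hlam a hae pV qV sqV hqVs
  have hζw : (yon S).map w ≫ l ≫ pullback.fst m ((yon S).map j) = fst := by
    rw [← Category.assoc, hl1, hlam1]
  have hζm : (l ≫ pullback.fst m ((yon S).map j)) ≫ m = (yon S).map j := by
    rw [Category.assoc, pb.w, ← Category.assoc, hl2, Category.id_comp]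
  refine ⟨l ≫ pullback.fst m ((yon S).map j), ?_, hζm, hζw⟩
  have hcov : IsStdRefinable (fun _ : PUnit.{u + 1} => (yon S).obj U) (fun _ => fst) :=
    isStdRefinable_of_isPullback c hflat hsurj m fst ((yon S).map π) sq
  have sqζ : IsPullback ((yon S).map w) (𝟙 ((yon S).obj U))
      (l ≫ pullback.fst m ((yon S).map j)) fst := by
    have houter : IsPullback (𝟙 ((yon S).obj U) ≫ (yon S).map π) ((yon S).map w)
        ((yon S).map c) ((l ≫ pullback.fst m ((yon S).map j)) ≫ m) := by
      rw [Category.id_comp, hζm]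
      exact (sqW.map (yon S)).flip
    exact (IsPullback.of_right houter (by rw [Category.id_comp, hζw]) sq.flip).flip
  exact (isLocalOnBase_std_isomorphisms (fun _ : PUnit.{u + 1} => (yon S).obj U) (fun _ => fst)
    hG (fun _ => IsAlgSpace.yon_obj U) hcov (l ≫ pullback.fst m ((yon S).map j))
    (IsAlgSpace.yon_obj W) (fun _ => (yon S).obj U) (fun _ => 𝟙 _) (fun _ => (yon S).map w)
    (fun _ => IsAlgSpace.yon_obj U) (fun _ => sqζ)).2 (fun _ => (inferInstance : IsIso (𝟙 _)))

end Groth.Agent.Helper19.FpqcAff
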