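import Groth.Agent.Lib.Helper15.AffDesc3

/-!
# Ring-level effective descent of affine schemes along a flat morphism of affine schemes (helper19)

The construction is the one of `Groth.Agent.Helper15.AffDesc.exists_affine_rep_of_affine_cover`,
but we only keep the scheme `W` and record that the kernel pair of `w : U ⟶ W` is contained in the
kernel pair of `h_U ⟶ G`; no finite presentation hypothesis is needed for this part.
-/

set_option autoImplicit false
set_option linter.style.haveILetI false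
set_option linter.unusedSectionVars false
set_option linter.unusedVariables false
universe u
open CategoryTheory CategoryTheory.Limits AlgebraicGeometry MorphismProperty Opposite
open AlgSp

namespace Groth.Agent.Helper19.FpqcAff

variable {S : Scheme.{u}}

open Groth.Agent.Helper15.AffDesc in
/-- The affine scheme `W` descending `U` along the flat map `c`, with the kernel pair property. -/
theorem exists_affine_quotient {G : Sp S} {T T'' U : Over S}
    [IsAffine T.left] [IsAffine T''.left] [IsAffine U.left]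
    (m : G ⟶ (yon S).obj T) (c : T'' ⟶ T) (hflat : Flat c.left)
    (π : U ⟶ T'') (fst : (yon S).obj U ⟶ G)
    (sq : IsPullback fst ((yon S).map π) m ((yon S).map c)) :
    ∃ (W : Over S) (j : W ⟶ T) (w : U ⟶ W),
      IsAffine W.left ∧ IsPullback w π j c ∧
        ∀ (X : Over S) (x y : X ⟶ U), x ≫ w = y ≫ w →
          (yon S).map x ≫ fst = (yon S).map y ≫ fst := by
  -- the relation `R = U ×_T T''`
  obtain ⟨R, p₁, p₂, sqR⟩ : ∃ (R : Over S) (p₁ : R ⟶ U) (p₂ : R ⟶ T''),
      IsPullback p₁ p₂ (π ≫ c) c := ⟨_, _, _, IsPullback.of_hasPullback _ _⟩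
  have hsqw : fst ≫ m = (yon S).map π ≫ (yon S).map c := sq.w
  have hw : ((yon S).map p₁ ≫ fst) ≫ m = (yon S).map p₂ ≫ (yon S).map c := by
    rw [Category.assoc, hsqw, ← Functor.map_comp, ← Functor.map_comp, ← Functor.map_comp, sqR.w]
  obtain ⟨t, ht⟩ := (yon S).map_surjective (sq.lift _ _ hw)
  have ht₁ : (yon S).map t ≫ fst = (yon S).map p₁ ≫ fst := by rw [ht, sq.lift_fst]
  have ht₂ : t ≫ π = p₂ := by
    apply (yon S).map_injective
    rw [Functor.map_comp, ht, sq.lift_snd]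
  -- equality of maps into `U` can be tested on `fst` and `π`
  have hUext : ∀ {X : Over S} (x y : X ⟶ U), (yon S).map x ≫ fst = (yon S).map y ≫ fst →
      x ≫ π = y ≫ π → x = y := by
    intro X x y h1 h2
    apply (yon S).map_injective
    apply sq.hom_ext h1
    rw [← Functor.map_comp, ← Functor.map_comp, h2]
  -- the diagonal
  let Δ : U ⟶ R := sqR.lift (𝟙 U) π (by simp)
  have hΔ₁ : Δ ≫ p₁ = 𝟙 U := sqR.lift_fst _ _ _
  have hΔ₂ : Δ ≫ p₂ = π := sqR.lift_snd _ _ _
  have hΔt : Δ ≫ t = 𝟙 U := by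
    apply hUext
    · rw [Functor.map_comp, Category.assoc, ht₁, ← Category.assoc, ← Functor.map_comp, hΔ₁]
    · rw [Category.assoc, ht₂, hΔ₂, Category.id_comp]
  -- the triple product
  obtain ⟨R₂, q₁, q₂, sqR₂⟩ : ∃ (R₂ : Over S) (q₁ : R₂ ⟶ R) (q₂ : R₂ ⟶ T''),
      IsPullback q₁ q₂ (p₁ ≫ π ≫ c) c := ⟨_, _, _, IsPullback.of_hasPullback _ _⟩
  have hRw : p₁ ≫ π ≫ c = p₂ ≫ c := sqR.w
  have hR₂w : q₁ ≫ p₁ ≫ π ≫ c = q₂ ≫ c := sqR₂.w
  let τ : R₂ ⟶ R := sqR.lift (q₁ ≫ t) q₂ (by
    rw [Category.assoc, ← Category.assoc t, ht₂, ← hRw, hR₂w])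
  have hτ₁ : τ ≫ p₁ = q₁ ≫ t := sqR.lift_fst _ _ _
  have hτ₂ : τ ≫ p₂ = q₂ := sqR.lift_snd _ _ _
  let σ : R₂ ⟶ R := sqR.lift (q₁ ≫ p₁) q₂ (by
    rw [Category.assoc, hR₂w])
  have hσ₁ : σ ≫ p₁ = q₁ ≫ p₁ := sqR.lift_fst _ _ _
  have hσ₂ : σ ≫ p₂ = q₂ := sqR.lift_snd _ _ _
  have hco : τ ≫ t = σ ≫ t := by
    apply hUext
    · rw [Functor.map_comp, Functor.map_comp, Category.assoc, Category.assoc, ht₁,
        ← Category.assoc, ← Category.assoc, ← Functor.map_comp, ← Functor.map_comp, hτ₁, hσ₁,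
        Functor.map_comp, Functor.map_comp, Category.assoc, Category.assoc, ht₁]
    · rw [Category.assoc, Category.assoc, ht₂, hτ₂, hσ₂]
  -- pass to rings
  have sqRl : IsPullback p₁.left p₂.left (π.left ≫ c.left) c.left := sqR.map (Over.forget S)
  haveI : IsAffine R.left := IsAffine.of_isPullback sqRl
  have sqR₂l : IsPullback q₁.left q₂.left (p₁.left ≫ π.left ≫ c.left) c.left :=
    sqR₂.map (Over.forget S)
  have hC0 := isPushout_appTop_of_isPullback sqRl
  have hE0 := isPushout_appTop_of_isPullback sqR₂l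
  simp only [Scheme.Hom.comp_appTop, Category.assoc] at hC0 hE0
  let a := c.left.appTop
  let ι := π.left.appTop
  let ρ := t.left.appTop
  let i₁ := p₁.left.appTop
  have e1 : ι ≫ ρ = p₂.left.appTop := by
    rw [← Scheme.Hom.comp_appTop, ← Over.comp_left, ht₂]
  have hpo := isPushout_of_coaction (D := CommRingCat.of (RingHom.eqLocus ρ.hom i₁.hom))
    a ι p₂.left.appTop i₁ hC0.flip
    q₂.left.appTop q₁.left.appTop hE0.flip
    ρ e1
    Δ.left.appTop (by rw [← Scheme.Hom.comp_appTop, ← Over.comp_left, hΔ₂])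
    (by rw [← Scheme.Hom.comp_appTop, ← Over.comp_left, hΔ₁]; rfl)
    (by rw [← Scheme.Hom.comp_appTop, ← Over.comp_left, hΔt]; rfl)
    τ.left.appTop σ.left.appTop
    (by rw [← Scheme.Hom.comp_appTop, ← Over.comp_left, hτ₂])
    (by rw [← Scheme.Hom.comp_appTop, ← Over.comp_left, hτ₁, Over.comp_left,
      Scheme.Hom.comp_appTop])
    (by rw [← Scheme.Hom.comp_appTop, ← Over.comp_left, hσ₂])
    (by rw [← Scheme.Hom.comp_appTop, ← Over.comp_left, hσ₁, Over.comp_left,
      Scheme.Hom.comp_appTop])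
    (by rw [← Scheme.Hom.comp_appTop, ← Scheme.Hom.comp_appTop, ← Over.comp_left,
      ← Over.comp_left, hco])
    ((HasRingHomProperty.iff_of_isAffine (P := @Flat)).1 hflat)
    (CommRingCat.ofHom (RingHom.eqLocus ρ.hom i₁.hom).subtype)
    (by ext x; exact x.2)
    (Subtype.val_injective)
    (fun b hb => ⟨⟨b, hb⟩, rfl⟩)
    (CommRingCat.ofHom ((a ≫ ι).hom.codRestrict (RingHom.eqLocus ρ.hom i₁.hom) (by
      intro x
      change ρ.hom (ι.hom (a.hom x)) = i₁.hom (ι.hom (a.hom x))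
      have e2 := hC0.w
      have h1 := congrArg (fun f => f.hom (a.hom x)) e1
      have h2 := congrArg (fun f => f.hom x) e2
      simp only [CommRingCat.hom_comp, RingHom.coe_comp, Function.comp_apply] at h1 h2
      rw [h1]
      exact h2.symm)))
    (by ext x; rfl)
  set D : CommRingCat := CommRingCat.of (RingHom.eqLocus ρ.hom i₁.hom) with hDdef
  set d : D ⟶ Γ(U.left, ⊤) := CommRingCat.ofHom (RingHom.eqLocus ρ.hom i₁.hom).subtype with hddef
  generalize hadef : (CommRingCat.ofHom ((a ≫ ι).hom.codRestrict (RingHom.eqLocus ρ.hom i₁.hom) _) :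
    Γ(T.left, ⊤) ⟶ D) = a₀ at hpo
  have hpb := isPullback_SpecMap_of_isPushout a a₀ ι d hpo
  let w₀ : U.left ⟶ Spec D := U.left.isoSpec.hom ≫ Spec.map d
  let j₀ : Spec D ⟶ T.left := Spec.map a₀ ≫ T.left.isoSpec.inv
  have hsqS : IsPullback w₀ π.left j₀ c.left := by
    refine hpb.flip.of_iso U.left.isoSpec.symm (Iso.refl _) T''.left.isoSpec.symm
      T.left.isoSpec.symm ?_ ?_ ?_ ?_
    · simp [w₀]
    · exact Scheme.isoSpec_inv_naturality π.left
    · simp [j₀]
    · exact Scheme.isoSpec_inv_naturality c.left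
  let W : Over S := Over.mk (j₀ ≫ T.hom)
  let j : W ⟶ T := Over.homMk j₀ rfl
  have hw₀ : w₀ ≫ j₀ ≫ T.hom = U.hom := by
    rw [← Category.assoc, hsqS.w, Category.assoc, Over.w c, Over.w π]
  let w : U ⟶ W := Over.homMk w₀ hw₀
  have sqW : IsPullback w π j c := IsPullback.of_map_of_faithful (Over.forget S) hsqS
  have hdeq : d ≫ i₁ = d ≫ ρ := by
    ext x
    exact x.2.symm
  have hcoeq : p₁ ≫ w = t ≫ w := by
    ext1
    change p₁.left ≫ U.left.isoSpec.hom ≫ Spec.map d = t.left ≫ U.left.isoSpec.hom ≫ Spec.map d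
    rw [← Scheme.isoSpec_hom_naturality_assoc, ← Scheme.isoSpec_hom_naturality_assoc,
      ← Spec.map_comp, ← Spec.map_comp]
    congr 2
  refine ⟨W, j, w, ?_, sqW, ?_⟩
  · change IsAffine (Spec D)
    infer_instance
  · intro X x y hxy
    have hxy' : x ≫ π ≫ c = (y ≫ π) ≫ c := by
      rw [← sqW.w, ← Category.assoc, hxy, Category.assoc, Category.assoc, sqW.w]
    have hr₁ : sqR.lift x (y ≫ π) hxy' ≫ p₁ = x := sqR.lift_fst _ _ _
    have hr₂ : sqR.lift x (y ≫ π) hxy' ≫ p₂ = y ≫ π := sqR.lift_snd _ _ _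
    have hrt : sqR.lift x (y ≫ π) hxy' ≫ t = y := by
      apply sqW.hom_ext
      · rw [Category.assoc, ← hcoeq, ← Category.assoc, hr₁, hxy]
      · rw [Category.assoc, ht₂, hr₂]
    calc (yon S).map x ≫ fst
        = (yon S).map (sqR.lift x (y ≫ π) hxy') ≫ (yon S).map p₁ ≫ fst := by
          rw [← Category.assoc, ← Functor.map_comp, hr₁]
      _ = (yon S).map (sqR.lift x (y ≫ π) hxy') ≫ (yon S).map t ≫ fst := by rw [ht₁]
      _ = (yon S).map y ≫ fst := by rw [← Category.assoc, ← Functor.map_comp, hrt]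

end Groth.Agent.Helper19.FpqcAff
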